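import Cfsg.Agent.Lib.Solv.FourFusion.Family

/-!
Strongly closed abelian subgroups of groups free of `S₄`.
-/

set_option autoImplicit false
set_option linter.style.haveILetI false
set_option linter.unusedSectionVars false

open scoped commutatorElement
open Cfsg.Agent.Fusion (cj SylIn)

namespace Cfsg.Agent.Solv.FourFus

open Cfsg.Agent.Solv.TwoFac (jh)

universe u

variable {G : Type u} [Group G] [Finite G] [Fact (Nat.Prime 2)]

theorem hatZ_elementary (S : Subgroup G) : Cfsg.IsElementaryAbelian 2 (hatZ S) :=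
  Local.elemAb_closure _ (fun _ ha _ hb => Subgroup.mem_centralizer_iff.1 hb.1.2 _ ha.1.1) fun _ ha => ha.2

theorem hatZ_normalizer {S : Subgroup G} {g : G} (h : g ∈ Subgroup.normalizer (jh S : Set G)) :
    g ∈ Subgroup.normalizer (hatZ S : Set G) := by
  refine Fusion.mem_normalizer_iff_cj.2 ?_
  rw [hatZ, cj, Fusion.omegaOne_map _ _ (MulAut.conj g).injective.injOn,
    map_inf_centralizer (MulAut.conj g).toMonoidHom (MulAut.conj g).injective,
    show (jh S).map (MulAut.conj g).toMonoidHom = jh S from Fusion.cj_eq_self h]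

/-- A fusion map of a subgroup `N` realised in `N_N(B)` is realised in `N_G(B)`. -/
theorem gd_map {N B U : Subgroup G} (hBN : B ≤ N) (hUN : U ≤ N) {g : ↥N}
    (h : Gd (B.subgroupOf N) (U.subgroupOf N) g) : Gd B U (g : G) := by
  obtain ⟨x, hx, hag⟩ := h
  refine ⟨x, ?_, fun u hu => congrArg Subtype.val (hag ⟨u, hUN hu⟩ hu)⟩
  have h1 := Subgroup.le_normalizer_map N.subtype ⟨x, hx, rfl⟩
  rwa [Subgroup.map_subgroupOf_eq_of_le hBN] at h1

/-- The data of the theorem in a subgroup containing `S`. -/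
theorem data_sub {S M B : Subgroup G} (hSM : S ≤ M) (hB : B ≤ hatZ S)
    (hBN : Subgroup.normalizer (Cfsg.thompsonSubgroupOf 2 S : Set G) ≤ Subgroup.normalizer (B : Set G)) :
    B.subgroupOf M ≤ hatZ (S.subgroupOf M) ∧
      Subgroup.normalizer (Cfsg.thompsonSubgroupOf 2 (S.subgroupOf M) : Set ↥M) ≤
        Subgroup.normalizer ((B.subgroupOf M : Subgroup ↥M) : Set ↥M) := by
  have hS : (S.subgroupOf M).map M.subtype = S := Subgroup.map_subgroupOf_eq_of_le hSM
  constructor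
  · rw [← Subgroup.map_le_map_iff_of_injective M.subtype_injective, hatZ_map _ M.subtype_injective, hS]
    exact (Subgroup.map_comap_le _ _).trans hB
  · intro x hx
    have h1 := Subgroup.le_normalizer_map M.subtype ⟨x, hx, rfl⟩
    rw [TwoFac.jElem_map M.subtype M.subtype_injective, hS] at h1
    refine Subgroup.mem_normalizer_iff.2 fun y => ?_
    exact Subgroup.mem_normalizer_iff.1 (hBN h1) (y : G)

/-- Fusion is controlled by the normaliser of `B`. -/
theorem gd_main : ∀ (n : ℕ) {G : Type u} [Group G] [Finite G], Nat.card G = n → Hyp G →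
    ∀ S : Subgroup G, SylIn 2 S ⊤ → ∀ B : Subgroup G, B ≤ hatZ S →
      Subgroup.normalizer (Cfsg.thompsonSubgroupOf 2 S : Set G) ≤ Subgroup.normalizer (B : Set G) →
      ∀ (U : Subgroup G) (g : G), U ≤ S → cj U g ≤ S → Gd B U g := by
  intro n
  induction n using Nat.strong_induction_on with
  | _ n ih =>
  intro G _ _ hn hyp S hS B hB hBN U g hU hg
  haveI : Fact (Nat.Prime 2) := ⟨Nat.prime_two⟩
  have hSB : S ≤ Subgroup.normalizer (B : Set G) := (thompson_normalizer S).trans hBN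
  have hC := gd_closed (B := B) hSB
  have hBS : B ≤ S := hB.trans (hatZ_le S)
  have hsub : ∀ M : Subgroup G, M ≠ ⊤ → S ≤ M → ∀ (V : Subgroup G) (x : G), x ∈ M → V ≤ S →
      cj V x ≤ S → Gd B V x := by
    intro M hM hSM V x hx hV hVx
    obtain ⟨h1, h2⟩ := data_sub hSM hB hBN
    refine gd_map (g := ⟨x, hx⟩) (hBS.trans hSM) (hV.trans hSM)
      (ih _ (hn ▸ lt_of_le_of_ne (Subgroup.card_le_card_group M) fun e => hM (Subgroup.eq_top_of_card_eq M e))
        rfl (hyp.sub M) (S.subgroupOf M)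
        ⟨le_top, hS.isPGroup.comap_subtype, by
          rw [Subgroup.relIndex_top_right]; exact (hS.mono hSM le_top).not_dvd⟩
        _ h1 h2 _ _ (fun v hv => hV hv) ?_)
    rintro _ ⟨v, hv, rfl⟩
    exact hVx (Fusion.conj_mem_cj hv)
  by_cases hcen : Subgroup.centralizer (cen0 S : Set G) ≠ ⊤
  · have h := fam _ rfl hyp S hS U g hU hg
    clear hg hU
    induction h with
    | step h1 h2 h3 =>
      rcases h3 with h3 | h3
      · exact hsub _ hcen (le_centralizer_cen0 S) _ _ h3 h1 h2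
      · exact ⟨_, hBN h3, fun _ _ => rfl⟩
    | comp _ _ ih1 ih2 => exact hC.comp ih1 ih2
    | congr _ h ih' => exact hC.congr ih' h
  rw [ne_eq, not_not] at hcen
  set Q := Cfsg.pCore 2 G with hQdef
  haveI : Q.Normal := inferInstance
  have hQS : Q ≤ S := Fusion.pCore_le_sylIn hS
  by_cases hQ : Q = ⊥
  · have hS1 : S = ⊥ := by
      by_contra hne
      refine cen0_ne_bot hS.isPGroup hne (le_bot_iff.1 (hQ ▸ ?_))
      haveI : (cen0 S).Normal := ⟨fun a ha y => by
        have hy : y ∈ Subgroup.centralizer (cen0 S : Set G) := hcen.symm ▸ Subgroup.mem_top y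
        rwa [← Subgroup.mem_centralizer_iff.1 hy a ha, mul_inv_cancel_right]⟩
      exact Fusion.le_pCore (hS.isPGroup.to_le (cen0_le S))
    refine ⟨1, one_mem _, fun u hu => ?_⟩
    have hu' : u = 1 := Subgroup.mem_bot.1 (hS1 ▸ hU hu)
    subst hu'; group
  set K := Q ⊔ Subgroup.centralizer (Q : Set G)
  haveI : K.Normal := inferInstance
  by_cases hKS : K ⊔ S = ⊤
  · by_cases hSQ : S ≤ Q
    · haveI : S.Normal := le_antisymm hSQ hQS ▸ ‹Q.Normal›
      refine ⟨g, hBN (Fusion.mem_normalizer_iff_cj.2 ?_), fun _ _ => rfl⟩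
      rw [JComp.thompson_cj, Fusion.cj_of_normal]
    have hcov : Subgroup.centralizer (Q : Set G) ⊔ S = ⊤ := by
      rw [← hKS]
      show _ = Q ⊔ Subgroup.centralizer (Q : Set G) ⊔ S
      rw [sup_comm Q, sup_assoc, sup_eq_right.2 hQS]
    obtain ⟨h1, h2⟩ := quot_proper hS hSQ
    refine lift_quot hS hQS hcov (fam _ rfl (hyp.quot Q)) hC (fun x hx V hV hVx => ?_) hU hg
    rcases hx with hx | hx
    · exact hsub _ h1 (Subgroup.map_le_iff_le_comap.1 (le_centralizer_cen0 _)) V x hx hV hVx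
    · exact hsub _ h2 (Subgroup.map_le_iff_le_comap.1 (thompson_normalizer _)) V x hx hV hVx
  -- Frattini
  set SK := S ⊓ K
  set N := Subgroup.normalizer (SK : Set G)
  have hsylK : SylIn 2 SK K := hS.inf_normal le_top (by rw [Subgroup.normalizer_eq_top])
  have hSN : S ≤ N := fun s hs => Fusion.mem_normalizer_iff_cj.2 (by
    rw [Fusion.cj_inf, Fusion.cj_eq_self_of_mem hs, Fusion.cj_of_normal])
  obtain ⟨k, hk, hkn⟩ := Fusion.frattini_conj hsylK (H := ⊤) (by rw [Subgroup.normalizer_eq_top])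
    (Subgroup.mem_top g)
  obtain ⟨a, ha, b, hb, hab, hbU, haU⟩ := product hS (le_sup_right : S ≤ K ⊔ S) hSN
    (x := k⁻¹) (y := k * g) (Subgroup.mem_sup_left (inv_mem hk)) hkn hU (by rwa [inv_mul_cancel_left])
  rw [inv_mul_cancel_left] at hab
  have ha' : Gd B (cj U b) a := hsub _ hKS le_sup_right _ a ha hbU haU
  have hb' : Gd B U b := by
    haveI : (SK.subgroupOf N).Normal := Subgroup.normal_subgroupOf_of_le_normalizer le_rfl
    have hS' : SylIn 2 (S.subgroupOf N) ⊤ := ⟨le_top, hS.isPGroup.comap_subtype, by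
      rw [Subgroup.relIndex_top_right]; exact (hS.mono hSN le_top).not_dvd⟩
    have hcen' : S.subgroupOf N ⊓ Subgroup.centralizer ((SK.subgroupOf N : Subgroup ↥N) : Set ↥N) ≤
        SK.subgroupOf N := by
      intro x hx
      obtain ⟨hx1, hx2⟩ := Subgroup.mem_inf.1 hx
      exact ⟨hx1, Subgroup.mem_sup_right (Subgroup.mem_centralizer_iff.2
        fun q hq => congrArg Subtype.val (Subgroup.mem_centralizer_iff.1 hx2
          ⟨q, hSN (hQS hq)⟩ ⟨hQS hq, Subgroup.mem_sup_left hq⟩))⟩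
    obtain ⟨h1, h2⟩ := data_sub hSN hB hBN
    refine gd_map (g := ⟨b, hb⟩) (hBS.trans hSN) (hU.trans hSN)
      (gd_of_normal_centric (T := SK.subgroupOf N) (hyp.sub N) hS' (fun x hx => hx.1) hcen' h1 h2
        (fun v hv => hU hv) ?_)
    rintro _ ⟨v, hv, rfl⟩
    exact hbU (Fusion.conj_mem_cj hv)
  rw [hab]
  exact hC.comp hb' ha'

/-- The conjugates of `Ω₁(Z(S))` under `N(J(S))` lie in `Ω₁(Z(Ĵ(S)))`. -/
theorem conj_cen0_mem (hyp : Hyp G) {S : Subgroup G} (hS : SylIn 2 S ⊤) {n : G}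
    (hn : n ∈ Subgroup.normalizer (Cfsg.thompsonSubgroupOf 2 S : Set G)) {z : G} (hz : z ∈ cen0 S) :
    n * z * n⁻¹ ∈ hatZ S := by
  set J := Cfsg.thompsonSubgroupOf 2 S
  have hzJ : cen0 S ≤ J := by
    refine (Subgroup.closure_le _).2 fun x hx => ?_
    obtain ⟨A, hA⟩ := JComp.mx_nonempty S
    exact JComp.mx_le_J hA (JComp.mem_mx_of_commute hA hx.1.1 hx.2 fun a ha =>
      (Subgroup.mem_centralizer_iff.1 hx.1.2 a (hA.1 ha)).symm)
  have hzh : cen0 S ≤ hatZ S := Subgroup.closure_mono fun x hx =>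
    ⟨⟨TwoFac.J_le_jh S (hzJ (Subgroup.subset_closure hx)),
      Subgroup.centralizer_le (TwoFac.jh_le S) hx.1.2⟩, hx.2⟩
  set N := Subgroup.normalizer (J : Set G)
  have hSN : S ≤ N := thompson_normalizer S
  have hCN : Subgroup.centralizer (J : Set G) ≤ N := Subgroup.centralizer_le_normalizer _
  have hNC : N ≤ Subgroup.normalizer (Subgroup.centralizer (J : Set G) : Set G) := fun x hx =>
    Fusion.mem_normalizer_iff_cj.2 (by rw [Fusion.cj_centralizer, Fusion.cj_eq_self hx])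
  set CS := S ⊓ Subgroup.centralizer (J : Set G)
  obtain ⟨e, he, hen⟩ := Fusion.frattini_conj ((hS.mono hSN le_top).inf_normal hCN hNC) hNC hn
  set P1 := J ⊔ CS
  set N1 := Subgroup.normalizer (P1 : Set G)
  have henN : e * n ∈ N := mul_mem (hCN he) hn
  have hn1 : e * n ∈ N1 := Fusion.mem_normalizer_iff_cj.2 (by
    rw [Fusion.cj_sup, Fusion.cj_eq_self henN, Fusion.cj_eq_self hen])
  have hSN1 : S ≤ N1 := fun s hs => Fusion.mem_normalizer_iff_cj.2 (by
    rw [Fusion.cj_sup, Fusion.cj_eq_self (hSN hs), Fusion.cj_inf, Fusion.cj_eq_self_of_mem hs,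
      Fusion.cj_eq_self (hNC (hSN hs))])
  have hP1S : P1 ≤ S := sup_le (JComp.J_le S) inf_le_left
  haveI : (P1.subgroupOf N1).Normal := Subgroup.normal_subgroupOf_of_le_normalizer le_rfl
  have hS' : SylIn 2 (S.subgroupOf N1) ⊤ := ⟨le_top, hS.isPGroup.comap_subtype, by
    rw [Subgroup.relIndex_top_right]; exact (hS.mono hSN1 le_top).not_dvd⟩
  have hcen' : S.subgroupOf N1 ⊓ Subgroup.centralizer ((P1.subgroupOf N1 : Subgroup ↥N1) : Set ↥N1) ≤
      P1.subgroupOf N1 := by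
    intro x hx
    obtain ⟨hx1, hx2⟩ := Subgroup.mem_inf.1 hx
    exact Subgroup.mem_sup_right ⟨hx1, Subgroup.mem_centralizer_iff.2
      fun q hq => congrArg Subtype.val (Subgroup.mem_centralizer_iff.1 hx2
        ⟨q, hSN1 (JComp.J_le S hq)⟩ (Subgroup.mem_sup_left hq))⟩
  obtain ⟨c, hc, m, hm, -, hcm⟩ := factor12 (T := P1.subgroupOf N1) (hyp.sub N1) hS'
    (fun x hx => hP1S hx) hcen' (⟨e * n, hn1⟩⁻¹)
  have hmap : (S.subgroupOf N1).map N1.subtype = S := Subgroup.map_subgroupOf_eq_of_le hSN1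
  have hm' : (m : G) ∈ Subgroup.normalizer (jh S : Set G) := by
    have h := Subgroup.le_normalizer_map N1.subtype ⟨m, hm, rfl⟩
    rwa [TwoFac.jh_map N1.subtype N1.subtype_injective, hmap] at h
  have hc' : (c : G) * z = z * c := by
    have hz' := hz
    rw [← hmap, ← cen0_map N1.subtype N1.subtype_injective] at hz'
    obtain ⟨z', hz'', rfl⟩ := hz'
    exact congrArg Subtype.val (Subgroup.mem_centralizer_iff.1 hc z' hz'').symm
  have hinv : (e * n)⁻¹ = (c : G) * m := congrArg Subtype.val hcm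
  have hk : e * n * z * (e * n)⁻¹ = (m : G)⁻¹ * z * m := by
    rw [show e * n * z * (e * n)⁻¹ = ((e * n)⁻¹)⁻¹ * z * (e * n)⁻¹ by rw [inv_inv], hinv,
      show ((c : G) * m)⁻¹ * z * (c * m) = (m : G)⁻¹ * ((c : G)⁻¹ * (z * c)) * m by group, ← hc',
      inv_mul_cancel_left]
  have h1 : e * n * z * (e * n)⁻¹ ∈ hatZ S := by
    rw [hk]
    have := (Subgroup.mem_normalizer_iff.1 (hatZ_normalizer (inv_mem hm')) z).1 (hzh hz)
    simpa using this
  have h2 : e * n * z * (e * n)⁻¹ ∈ J := (Subgroup.mem_normalizer_iff.1 henN z).1 (hzJ hz)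
  have h3 := Subgroup.mem_centralizer_iff.1 he _ h2
  have h4 : n * z * n⁻¹ = e * n * z * (e * n)⁻¹ := by
    calc n * z * n⁻¹ = e⁻¹ * (e * n * z * (e * n)⁻¹ * e) := by group
      _ = e⁻¹ * (e * (e * n * z * (e * n)⁻¹)) := by rw [h3]
      _ = _ := by rw [inv_mul_cancel_left]
  rwa [h4]

/-- The theorem. -/
theorem strongly_closed_normalClosure (hyp : Hyp G) (S : Sylow 2 G) {N A : Subgroup G}
    (hN : N = Subgroup.normalizer (Cfsg.thompsonSubgroupOf 2 (S : Subgroup G) : Set G))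
    (hA : A = (Subgroup.normalClosure (((cen0 (S : Subgroup G)).subgroupOf N : Subgroup ↥N) : Set ↥N)).map
      N.subtype) :
    A ≤ S ∧ Cfsg.IsElementaryAbelian 2 A ∧ Cfsg.IsStronglyClosed A (S : Subgroup G) ∧
      Cfsg.ControlsStrongFusion 2 A := by
  have hS := Fusion.sylIn_top S
  have hAh : A ≤ hatZ (S : Subgroup G) := by
    rw [hA, Subgroup.map_le_iff_le_comap]
    refine (Subgroup.closure_le _).2 fun x hx => ?_
    obtain ⟨z, hz, hzx⟩ := Group.mem_conjugatesOfSet_iff.1 hx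
    obtain ⟨m, rfl⟩ := isConj_iff.1 hzx
    exact conj_cen0_mem hyp hS (hN.le m.2) hz
  have hNA : N ≤ Subgroup.normalizer (A : Set G) := by
    intro m hm
    haveI := Subgroup.normalClosure_normal
      (s := (((cen0 (S : Subgroup G)).subgroupOf N : Subgroup ↥N) : Set ↥N))
    rw [hA]
    exact Subgroup.le_normalizer_map N.subtype
      ⟨⟨m, hm⟩, by rw [Subgroup.normalizer_eq_top]; exact Subgroup.mem_top _, rfl⟩
  have hgd : ∀ (X : Set G) (g : G), X ⊆ (S : Subgroup G) → (fun a => g * a * g⁻¹) '' X ⊆ (S : Subgroup G) →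
      ∃ x ∈ Subgroup.normalizer (A : Set G), ∀ a ∈ X, g * a * g⁻¹ = x * a * x⁻¹ := by
    intro X g hX hXg
    obtain ⟨x, hx, hag⟩ := gd_main _ rfl hyp (S : Subgroup G) hS A hAh (hN ▸ hNA) (Subgroup.closure X) g
      ((Subgroup.closure_le _).2 hX) (by
        rw [cj, MonoidHom.map_closure, Subgroup.closure_le]
        rintro _ ⟨a, ha, rfl⟩
        exact hXg ⟨a, ha, by simp⟩)
    exact ⟨x, hx, fun a ha => (hag a (Subgroup.subset_closure ha)).symm⟩
  refine ⟨hAh.trans (hatZ_le _), TwoFac.elem_mono (hatZ_elementary _) hAh,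
    ⟨hAh.trans (hatZ_le _), fun a ha g hg => ?_⟩, S, hAh.trans (hatZ_le _), fun X hX => ⟨hX, fun g hg => ?_⟩⟩
  · obtain ⟨x, hx, hag⟩ := hgd {a} g (Set.singleton_subset_iff.2 (hAh.trans (hatZ_le _) ha))
      (by rintro _ ⟨b, rfl, rfl⟩; exact hg)
    rw [hag a rfl]
    exact (Subgroup.mem_normalizer_iff.1 hx a).1 ha
  · exact hgd X g hX hg

end Cfsg.Agent.Solv.FourFus
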