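import Cfsg.Agent.Lib.Solv.TwoFactor.Main
import Cfsg.Agent.Lib.Fusion.Reduction

/-!
Fusion in groups free of `S₄`: the hypotheses, the functors and the closed predicates on conjugation
maps.
-/

set_option autoImplicit false
set_option linter.style.haveILetI false
set_option linter.unusedSectionVars false

open scoped commutatorElement
open Cfsg.Agent.Fusion (cj SylIn)

namespace Cfsg.Agent.Solv.FourFus

open Cfsg.Agent.Solv.TwoFac (KG jh)

universe u

variable {G : Type u} [Group G]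

/-- The hypotheses on the group. -/
structure Hyp (G : Type u) [Group G] : Prop where
  free : ¬ Cfsg.Involves (Equiv.Perm (Fin 4)) G
  sec : ∀ (X : Type u) [Group X] [Finite X] (K : Subgroup G) (f : K →* X), Function.Surjective f →
    Subgroup.centralizer (Cfsg.pCore 2 X : Set X) ≤ Cfsg.pCore 2 X → KG X

theorem hyp_of_sections (hfree : ¬ Cfsg.Involves (Equiv.Perm (Fin 4)) G)
    (hsec : ∀ (K R : Subgroup G) [hR : (R.subgroupOf K).Normal],
      Subgroup.centralizer (Cfsg.pCore 2 (K ⧸ R.subgroupOf K) : Set (K ⧸ R.subgroupOf K)) ≤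
        Cfsg.pCore 2 (K ⧸ R.subgroupOf K) →
      Cfsg.IsCompositionKGroupWith Cfsg.IsSuzukiOrPSL2OddPowerThree (K ⧸ R.subgroupOf K)) :
    Hyp G := by
  refine ⟨hfree, fun X _ _ K f hf hc => ?_⟩
  have e0 : (f.ker.map K.subtype).subgroupOf K = f.ker :=
    Subgroup.comap_map_eq_self_of_injective K.subtype_injective _
  haveI hn : ((f.ker.map K.subtype).subgroupOf K).Normal := by rw [e0]; infer_instance
  let e := (QuotientGroup.quotientMulEquivOfEq e0).trans (QuotientGroup.quotientKerEquivOfSurjective f hf)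
  exact TwoFac.kg_congr e (hsec K (f.ker.map K.subtype) (Fusion.centralizer_pCore_equiv e hc))

theorem Hyp.sub (h : Hyp G) [Finite G] (M : Subgroup G) : Hyp ↥M where
  free := TwoFac.free_sub h.free M
  sec X _ _ K f hf hc := h.sec X (K.map M.subtype)
    (f.comp (K.equivMapOfInjective M.subtype M.subtype_injective).symm.toMonoidHom)
    (hf.comp (K.equivMapOfInjective M.subtype M.subtype_injective).symm.surjective) hc

theorem Hyp.quot (h : Hyp G) [Finite G] (N : Subgroup G) [N.Normal] : Hyp (G ⧸ N) := by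
  have hs : ∀ K : Subgroup (G ⧸ N), Function.Surjective ((QuotientGroup.mk' N).subgroupComap K) := by
    rintro K ⟨y, hy⟩
    obtain ⟨x, rfl⟩ := QuotientGroup.mk'_surjective N y
    exact ⟨⟨x, hy⟩, rfl⟩
  refine ⟨fun hinv => ?_, fun X _ _ K f hf hc => ?_⟩
  · obtain ⟨K, f, hf⟩ := Fusion.involves_exists_surjective hinv
    exact h.free (Fusion.involves_of_surjective (f.comp ((QuotientGroup.mk' N).subgroupComap K))
      (hf.comp (hs K)))
  · exact h.sec X _ (f.comp ((QuotientGroup.mk' N).subgroupComap K)) (hf.comp (hs K)) hc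

/-- `Ω₁(Z(S))`. -/
def cen0 (S : Subgroup G) : Subgroup G :=
  Cfsg.omegaOne 2 (S ⊓ Subgroup.centralizer (S : Set G))

/-- `Ω₁(Z(Ĵ(S)))`. -/
def hatZ (S : Subgroup G) : Subgroup G :=
  Cfsg.omegaOne 2 (jh S ⊓ Subgroup.centralizer (jh S : Set G))

theorem cen0_le (S : Subgroup G) : cen0 S ≤ S := (Subgroup.closure_le _).2 fun _ h => h.1.1

theorem cen0_le_centralizer (S : Subgroup G) : cen0 S ≤ Subgroup.centralizer (S : Set G) :=
  (Subgroup.closure_le _).2 fun _ h => h.1.2

theorem le_centralizer_cen0 (S : Subgroup G) : S ≤ Subgroup.centralizer (cen0 S : Set G) :=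
  Subgroup.le_centralizer_iff.1 (cen0_le_centralizer S)

theorem map_inf_centralizer {H : Type u} [Group H] (f : G →* H) (hf : Function.Injective f)
    (A : Subgroup G) :
    (A ⊓ Subgroup.centralizer (A : Set G)).map f =
      A.map f ⊓ Subgroup.centralizer (A.map f : Set H) := by
  ext y
  constructor
  · rintro ⟨x, hx, rfl⟩
    refine ⟨⟨x, hx.1, rfl⟩, Subgroup.mem_centralizer_iff.2 ?_⟩
    rintro _ ⟨a, ha, rfl⟩
    rw [← map_mul, ← map_mul, Subgroup.mem_centralizer_iff.1 hx.2 a ha]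
  · rintro ⟨⟨x, hx, rfl⟩, hy⟩
    refine ⟨x, ⟨hx, Subgroup.mem_centralizer_iff.2 fun a ha => hf ?_⟩, rfl⟩
    rw [map_mul, map_mul]
    exact Subgroup.mem_centralizer_iff.1 hy _ ⟨a, ha, rfl⟩

theorem cen0_map {H : Type u} [Group H] (f : G →* H) (hf : Function.Injective f) (A : Subgroup G) :
    (cen0 A).map f = cen0 (A.map f) := by
  rw [cen0, cen0, Fusion.omegaOne_map f _ hf.injOn, map_inf_centralizer f hf]

variable [Finite G] [Fact (Nat.Prime 2)]

theorem hatZ_le (S : Subgroup G) : hatZ S ≤ S :=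
  (Subgroup.closure_le _).2 fun _ h => TwoFac.jh_le S h.1.1

theorem hatZ_map {H : Type u} [Group H] [Finite H] (f : G →* H) (hf : Function.Injective f)
    (A : Subgroup G) : (hatZ A).map f = hatZ (A.map f) := by
  rw [hatZ, hatZ, Fusion.omegaOne_map f _ hf.injOn, map_inf_centralizer f hf, TwoFac.jh_map f hf]

theorem cen0_ne_bot {S : Subgroup G} (hS : IsPGroup 2 S) (h : S ≠ ⊥) : cen0 S ≠ ⊥ := by
  haveI : Nontrivial ↥S := (Subgroup.nontrivial_iff_ne_bot S).2 h
  obtain ⟨z, hz, hz1, hzc⟩ := Fusion.exists_central_of_normal hS (⊤ : Subgroup ↥S) top_ne_bot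
  obtain ⟨k, hk⟩ := hS z
  induction k generalizing z with
  | zero => exact absurd (by simpa using hk) hz1
  | succ k ih =>
    by_cases h2 : z ^ 2 = 1
    · intro e
      have hm : (z : G) ∈ cen0 S := Subgroup.subset_closure ⟨⟨z.2, Subgroup.mem_centralizer_iff.2
        fun s hs => congrArg Subtype.val (Subgroup.mem_center_iff.1 hzc ⟨s, hs⟩)⟩,
          congrArg Subtype.val h2⟩
      rw [e, Subgroup.mem_bot] at hm
      exact hz1 (Subtype.ext hm)
    · exact ih (z ^ 2) (Subgroup.mem_top _) h2 (pow_mem hzc 2) (by rw [← pow_mul, ← pow_succ']; exact hk)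

/-- A predicate on conjugation maps of subgroups of `S`, closed under composition. -/
structure Closed (S : Subgroup G) (P : Subgroup G → G → Prop) : Prop where
  comp : ∀ {U : Subgroup G} {x y : G}, P U x → P (cj U x) y → P U (y * x)
  congr : ∀ {U : Subgroup G} {x y : G}, P U x → (∀ u ∈ U, x * u * x⁻¹ = y * u * y⁻¹) → P U y
  mono : ∀ {U V : Subgroup G} {x : G}, V ≤ U → P U x → P V x
  inner : ∀ {U : Subgroup G} {x : G}, U ≤ S → x ∈ S → P U x

theorem Closed.cent {S : Subgroup G} {P : Subgroup G → G → Prop} (hP : Closed S P) {U : Subgroup G}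
    (hU : U ≤ S) {z : G} (hz : z ∈ Subgroup.centralizer (U : Set G)) : P U z := by
  refine hP.congr (hP.inner hU (one_mem S)) fun u hu => ?_
  rw [← Subgroup.mem_centralizer_iff.1 hz u hu]
  group

/-- The maps generated by `C(Ω₁(Z(S)))` and `N(J(S))` inside `S`. -/
inductive Lnk (S : Subgroup G) : Subgroup G → G → Prop
  | step {U : Subgroup G} {x : G} : U ≤ S → cj U x ≤ S →
      (x ∈ Subgroup.centralizer (cen0 S : Set G) ∨
        x ∈ Subgroup.normalizer (Cfsg.thompsonSubgroupOf 2 S : Set G)) → Lnk S U x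
  | comp {U : Subgroup G} {x y : G} : Lnk S U x → Lnk S (cj U x) y → Lnk S U (y * x)
  | congr {U : Subgroup G} {x y : G} : Lnk S U x → (∀ u ∈ U, x * u * x⁻¹ = y * u * y⁻¹) → Lnk S U y

theorem cj_congr {U : Subgroup G} {x y : G} (h : ∀ u ∈ U, x * u * x⁻¹ = y * u * y⁻¹) :
    cj U x = cj U y := by
  ext z
  constructor
  all_goals
    rintro ⟨u, hu, rfl⟩
    refine ⟨u, hu, ?_⟩
    simp only [MulEquiv.coe_toMonoidHom, MulAut.conj_apply]
    rw [h u hu]

theorem Lnk.range {S U : Subgroup G} {x : G} (h : Lnk S U x) : U ≤ S ∧ cj U x ≤ S := by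
  induction h with
  | step h1 h2 _ => exact ⟨h1, h2⟩
  | comp _ _ ih1 ih2 => exact ⟨ih1.1, by rw [← Fusion.cj_cj]; exact ih2.2⟩
  | congr _ h ih => exact ⟨ih.1, by rw [← cj_congr h]; exact ih.2⟩

theorem Lnk.restrict {S U : Subgroup G} {x : G} (h : Lnk S U x) {V : Subgroup G} (hV : V ≤ U) :
    Lnk S V x := by
  induction h generalizing V with
  | step h1 h2 h3 => exact .step (hV.trans h1) ((Fusion.cj_mono hV _).trans h2) h3
  | comp _ _ ih1 ih2 => exact .comp (ih1 hV) (ih2 (Fusion.cj_mono hV _))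
  | congr _ h ih => exact .congr (ih hV) fun u hu => h u (hV hu)

theorem thompson_normalizer (S : Subgroup G) :
    S ≤ Subgroup.normalizer (Cfsg.thompsonSubgroupOf 2 S : Set G) := fun s hs =>
  Fusion.mem_normalizer_iff_cj.2 (by rw [JComp.thompson_cj, Fusion.cj_eq_self_of_mem hs])

theorem lnk_closed (S : Subgroup G) : Closed S (Lnk S) where
  comp := .comp
  congr := .congr
  mono hV h := h.restrict hV
  inner hU hx := .step hU ((Fusion.cj_mono hU _).trans (Fusion.cj_eq_self_of_mem hx).le)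
    (Or.inr (thompson_normalizer S hx))

/-- Agreement with an element normalising `B`. -/
def Gd (B U : Subgroup G) (g : G) : Prop :=
  ∃ x ∈ Subgroup.normalizer (B : Set G), ∀ u ∈ U, x * u * x⁻¹ = g * u * g⁻¹

theorem gd_closed {S B : Subgroup G} (hSB : S ≤ Subgroup.normalizer (B : Set G)) : Closed S (Gd B) where
  comp := by
    rintro U x y ⟨x', hx', hx⟩ ⟨y', hy', hy⟩
    refine ⟨y' * x', mul_mem hy' hx', fun u hu => ?_⟩
    have h1 := hy _ (Fusion.conj_mem_cj (g := x) hu)
    rw [show y' * x' * u * (y' * x')⁻¹ = y' * (x' * u * x'⁻¹) * y'⁻¹ by group, hx u hu, h1]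
    group
  congr := by
    rintro U x y ⟨x', hx', hx⟩ h
    exact ⟨x', hx', fun u hu => (hx u hu).trans (h u hu)⟩
  mono := by
    rintro U V x hV ⟨x', hx', hx⟩
    exact ⟨x', hx', fun u hu => hx u (hV hu)⟩
  inner := fun {U x} _ hx => ⟨x, hSB hx, fun _ _ => rfl⟩

/-- A factorisation may be chosen to respect a subgroup of `S`. -/
theorem product {S X Y : Subgroup G} (hS : SylIn 2 S ⊤) (hX : S ≤ X) (hY : S ≤ Y) {x y : G}
    (hx : x ∈ X) (hy : y ∈ Y) {U : Subgroup G} (hU : U ≤ S) (hg : cj U (x * y) ≤ S) :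
    ∃ x' ∈ X, ∃ y' ∈ Y, x * y = x' * y' ∧ cj U y' ≤ S ∧ cj (cj U y') x' ≤ S := by
  have h1 : cj U y ≤ Y := (Fusion.cj_mono (hU.trans hY) y).trans (Fusion.cj_eq_self_of_mem hy).le
  have h2 : cj U y ≤ X := by
    have h3 := Fusion.cj_mono (hg.trans hX) x⁻¹
    rw [Fusion.cj_cj, inv_mul_cancel_left, Fusion.cj_eq_self_of_mem (inv_mem hx)] at h3
    exact h3
  obtain ⟨t, ht, ht'⟩ := (hS.mono (le_inf hY hX) le_top).conj_le
    (Fusion.isPGroup_cj (hS.isPGroup.to_le hU) y) (le_inf h1 h2)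
  rw [Fusion.cj_cj] at ht'
  refine ⟨x * t⁻¹, mul_mem hx (inv_mem ht.2), t * y, mul_mem ht.1 hy, by group, ht', ?_⟩
  rwa [Fusion.cj_cj, show x * t⁻¹ * (t * y) = x * y by group]

end Cfsg.Agent.Solv.FourFus
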