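import Cfsg.Agent.Lib.Solv.FourFusion.Local

/-!
Fusion in groups free of `S₄` is generated by `C(Ω₁(Z(S)))` and `N(J(S))`.
-/

set_option autoImplicit false
set_option linter.style.haveILetI false
set_option linter.unusedSectionVars false

open scoped commutatorElement
open Cfsg.Agent.Fusion (cj SylIn)

namespace Cfsg.Agent.Solv.FourFus

open Cfsg.Agent.Solv.TwoFac (KG jh centMod)

universe u

/-- Fusion in the Sylow 2-subgroups is generated by the two subgroups. -/
def Fam (G : Type u) [Group G] : Prop :=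
  ∀ S : Subgroup G, SylIn 2 S ⊤ → ∀ (U : Subgroup G) (g : G), U ≤ S → cj U g ≤ S → Lnk S U g

variable {G : Type u} [Group G] [Finite G] [Fact (Nat.Prime 2)]

theorem map_cj (M : Subgroup G) (U : Subgroup ↥M) (x : ↥M) :
    (cj U x).map M.subtype = cj (U.map M.subtype) (x : G) := by
  rw [cj, cj, Subgroup.map_map, Subgroup.map_map]
  rfl

/-- Steps in a subgroup `M` with Sylow subgroup `P` generate its fusion. -/
theorem use_fam {S M P : Subgroup G} (hFam : Fam ↥M) (hP : SylIn 2 P M)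
    {Q : Subgroup G → G → Prop} (hQ : Closed S Q)
    (hstep : ∀ x ∈ M, (x ∈ Subgroup.centralizer (cen0 P : Set G) ∨
        x ∈ Subgroup.normalizer (Cfsg.thompsonSubgroupOf 2 P : Set G)) →
      ∀ V : Subgroup G, V ≤ P → cj V x ≤ P → Q V x)
    {U : Subgroup G} (hU : U ≤ P) {g : G} (hgM : g ∈ M) (hg : cj U g ≤ P) : Q U g := by
  set P' := P.subgroupOf M
  have hP'map : P'.map M.subtype = P := Subgroup.map_subgroupOf_eq_of_le hP.le
  have hP' : SylIn 2 P' ⊤ := ⟨le_top, hP.isPGroup.comap_subtype, by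
    rw [Subgroup.relIndex_top_right]; exact hP.not_dvd⟩
  have key : ∀ (V : Subgroup ↥M) (x : ↥M), Lnk P' V x → Q (V.map M.subtype) x := by
    intro V x h
    induction h with
    | @step V x h1 h2 h3 =>
      refine hstep x x.2 ?_ _ ((Subgroup.map_mono h1).trans hP'map.le)
        (by rw [← map_cj]; exact (Subgroup.map_mono h2).trans hP'map.le)
      rcases h3 with h3 | h3
      · refine Or.inl (Subgroup.mem_centralizer_iff.2 fun z hz => ?_)
        rw [← hP'map, ← cen0_map M.subtype M.subtype_injective] at hz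
        obtain ⟨z', hz', rfl⟩ := hz
        exact congrArg Subtype.val (Subgroup.mem_centralizer_iff.1 h3 z' hz')
      · refine Or.inr ?_
        have h := Subgroup.le_normalizer_map M.subtype ⟨x, h3, rfl⟩
        rwa [TwoFac.jElem_map M.subtype M.subtype_injective, hP'map] at h
    | @comp V x y _ _ ih1 ih2 =>
      rw [map_cj] at ih2
      exact hQ.comp ih1 ih2
    | @congr V x y _ h ih =>
      refine hQ.congr ih ?_
      rintro _ ⟨v, hv, rfl⟩
      exact congrArg Subtype.val (h v hv)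
  have hU' : (U.subgroupOf M).map M.subtype = U := Subgroup.map_subgroupOf_eq_of_le (hU.trans hP.le)
  rw [← hU']
  refine key (U.subgroupOf M) ⟨g, hgM⟩ (hFam P' hP' _ _ (fun v hv => hU hv) ?_)
  rintro _ ⟨v, hv, rfl⟩
  exact hg (Fusion.conj_mem_cj hv)

/-- A subgroup in which the odd elements lie in a normalised subgroup. -/
theorem le_sup_sylow {K C T : Subgroup G} (hCK : C ≤ K) (hKC : K ≤ Subgroup.normalizer (C : Set G))
    (hT : SylIn 2 T K) (hodd : ∀ x ∈ K, Odd (orderOf x) → x ∈ C) : K ≤ C ⊔ T := by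
  haveI : (C.subgroupOf K).Normal := Subgroup.normal_subgroupOf_of_le_normalizer hKC
  have hp : IsPGroup 2 (K ⧸ C.subgroupOf K) := by
    intro x
    obtain ⟨x, rfl⟩ := QuotientGroup.mk_surjective x
    obtain ⟨k, o, -, -, hodd'⟩ := JComp.exists_parts (x : G)
    refine ⟨k, ?_⟩
    rw [← QuotientGroup.mk_pow, QuotientGroup.eq_one_iff]
    exact hodd _ (pow_mem x.2 _) hodd'
  obtain ⟨k, hk⟩ := IsPGroup.iff_card.1 hp
  have h1 : (C ⊔ T).relIndex K ∣ 2 ^ k := by
    rw [← hk, ← Subgroup.index_eq_card]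
    exact Subgroup.relIndex_dvd_of_le_left K le_sup_left
  obtain ⟨j, -, hj⟩ := (Nat.dvd_prime_pow Nat.prime_two).1 h1
  have h2 : ¬ 2 ∣ (C ⊔ T).relIndex K := fun hd =>
    hT.not_dvd (hd.trans (Subgroup.relIndex_dvd_of_le_left K le_sup_right))
  rcases j with _ | j
  · exact Subgroup.relIndex_eq_one.1 (hj.trans (pow_zero 2))
  · exact absurd (hj ▸ dvd_pow_self 2 (Nat.succ_ne_zero j)) h2

/-- An extremal conjugate, with the whole normaliser carried into `S`. -/
theorem exists_extremal {S W : Subgroup G} (hS : SylIn 2 S ⊤) (hW : W ≤ S) :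
    ∃ e : G, cj W e ≤ S ∧
      SylIn 2 (S ⊓ Subgroup.normalizer (cj W e : Set G)) (Subgroup.normalizer (cj W e : Set G)) ∧
      cj (S ⊓ Subgroup.normalizer (W : Set G)) e ≤ S ⊓ Subgroup.normalizer (cj W e : Set G) := by
  obtain ⟨c, hc, hsyl⟩ := Fusion.exists_extremal_conj hS hW
  have h1 : cj (S ⊓ Subgroup.normalizer (W : Set G)) c ≤ Subgroup.normalizer (cj W c : Set G) := by
    rw [← Fusion.cj_normalizer]; exact Fusion.cj_mono inf_le_right c
  obtain ⟨m, hm, hm'⟩ := hsyl.conj_le (Fusion.isPGroup_cj hS.isPGroup.to_inf_left c) h1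
  have he : cj W (m * c) = cj W c := by rw [← Fusion.cj_cj, Fusion.cj_eq_self hm]
  refine ⟨m * c, ?_, ?_, ?_⟩ <;> rw [he]
  · exact hc
  · exact hsyl
  · rw [← Fusion.cj_cj]; exact hm'

theorem card_lt_normalizer {S W : Subgroup G} (hS : SylIn 2 S ⊤) (hW : W ≤ S) (hne : W ≠ S) :
    Nat.card W < Nat.card ↥(S ⊓ Subgroup.normalizer (W : Set G)) :=
  Solv.card_lt_of_lt (SylIn.normalizer_growth (p := 2) hW hne hS.isPGroup)

/-- Fusion when the 2-core is trivial, from that of the proper subgroups. -/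
theorem fam_of_core_bot (hQ : Cfsg.pCore 2 G = ⊥)
    (hsub : ∀ M : Subgroup G, M ≠ ⊤ → Fam ↥M) : Fam G := by
  intro S hS
  have hL := lnk_closed S
  have hproper : ∀ W ≤ S, W ≠ ⊥ → Subgroup.normalizer (W : Set G) ≠ ⊤ := fun W hWS hW h => by
    haveI := Subgroup.normalizer_eq_top_iff.1 h
    exact hW (le_bot_iff.1 (hQ ▸ Fusion.le_pCore (hS.isPGroup.to_le hWS)))
  suffices H : ∀ d : ℕ,
      (∀ (U : Subgroup G) (g : G), Nat.card S - Nat.card U ≤ d → U ≤ S → cj U g ≤ S → Lnk S U g) ∧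
      (∀ W ≤ S, W ≠ ⊥ → Nat.card S - Nat.card ↥(S ⊓ Subgroup.normalizer (W : Set G)) ≤ d →
        ∀ n ∈ Subgroup.normalizer (W : Set G), ∀ V ≤ S ⊓ Subgroup.normalizer (W : Set G),
          cj V n ≤ S → Lnk S V n) from
    fun U g hU hg => (H _).1 U g le_rfl hU hg
  intro d
  induction d using Nat.strong_induction_on with
  | _ d ih =>
  have hgrow : ∀ {X Y : Subgroup G}, Y ≤ S → Nat.card X < Nat.card Y → Nat.card S - Nat.card X ≤ d →
      ∃ d' < d, Nat.card S - Nat.card Y ≤ d' := fun {X Y} hY hlt hX => by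
    have := Subgroup.card_le_of_le hY
    exact ⟨Nat.card S - Nat.card Y, by omega, le_rfl⟩
  have hP : ∀ (U : Subgroup G) (g : G), Nat.card S - Nat.card U ≤ d → U ≤ S → cj U g ≤ S → Lnk S U g := by
    intro U g hd hU hg
    by_cases hUS : U = S
    · refine .step hU hg (Or.inr (Fusion.mem_normalizer_iff_cj.2 ?_))
      rw [JComp.thompson_cj, Fusion.cj_eq_of_cj_le (hUS ▸ hg)]
    by_cases hU1 : U = ⊥
    · refine .congr (x := 1) (hL.inner hU (one_mem S)) fun u hu => ?_
      rw [hU1, Subgroup.mem_bot] at hu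
      subst hu; group
    have hgS : cj U g ≠ S := fun h => hUS
      (Subgroup.eq_of_le_of_card_ge hU (by rw [← h, Fusion.card_cj]))
    obtain ⟨c, hc, hsyl⟩ := Fusion.exists_extremal_conj hS hU
    set U0 := cj U c
    have key : ∀ Y : Subgroup G, Nat.card Y = Nat.card U → Y ≤ S → Y ≠ S → ∀ e : G, cj Y e = U0 →
        ∃ a : G, Lnk S Y a ∧ cj Y a = U0 ∧ Lnk S U0 a⁻¹ := by
      intro Y hY hYS hne e he
      have h1 : cj (S ⊓ Subgroup.normalizer (Y : Set G)) e ≤ Subgroup.normalizer (U0 : Set G) := by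
        rw [← he, ← Fusion.cj_normalizer]; exact Fusion.cj_mono inf_le_right e
      obtain ⟨m, hm, hm'⟩ := hsyl.conj_le (Fusion.isPGroup_cj hS.isPGroup.to_inf_left e) h1
      rw [Fusion.cj_cj] at hm'
      obtain ⟨d', hd', hle⟩ := hgrow (X := Y) inf_le_left (card_lt_normalizer hS hYS hne) (hY ▸ hd)
      have hYe : cj Y (m * e) = U0 := by rw [← Fusion.cj_cj, he, Fusion.cj_eq_self hm]
      refine ⟨m * e, ?_, hYe, ?_⟩
      · exact ((ih d' hd').1 _ (m * e) hle inf_le_left (hm'.trans inf_le_left)).restrict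
          (le_inf hYS Subgroup.le_normalizer)
      · rw [← hYe]
        refine ((ih d' hd').1 (cj (S ⊓ Subgroup.normalizer (Y : Set G)) (m * e)) _ ?_
          (hm'.trans inf_le_left) ?_).restrict (Fusion.cj_mono (le_inf hYS Subgroup.le_normalizer) _)
        · rw [Fusion.card_cj]; exact hle
        · rw [Fusion.cj_cj_inv]; exact inf_le_left
    obtain ⟨a, ha, haU, -⟩ := key U rfl hU hUS c rfl
    obtain ⟨b, hb, hbU, hbinv⟩ := key (cj U g) (Fusion.card_cj _ _) hg hgS (c * g⁻¹)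
      (by rw [Fusion.cj_cj, inv_mul_cancel_right])
    have hn : b * g * a⁻¹ ∈ Subgroup.normalizer (U0 : Set G) := by
      refine Fusion.mem_normalizer_iff_cj.2 ?_
      conv_lhs => rw [← haU, Fusion.cj_cj, inv_mul_cancel_right, ← Fusion.cj_cj, hbU]
    have hU0 : U0 ≠ ⊥ := fun h => hU1 (by
      rw [← Subgroup.card_eq_one] at h ⊢; rwa [Fusion.card_cj] at h)
    have hne : U0 ≠ S := fun h => hUS
      (Subgroup.eq_of_le_of_card_ge hU (by rw [← h, Fusion.card_cj]))
    obtain ⟨d', hd', hle⟩ := hgrow (X := U0) inf_le_left (card_lt_normalizer hS hc hne)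
      (by rw [Fusion.card_cj]; exact hd)
    have h1 : Lnk S U0 (b * g * a⁻¹) := (ih d' hd').2 U0 hc hU0 hle _ hn U0
      (le_inf hc Subgroup.le_normalizer) (by rw [Fusion.cj_eq_self hn]; exact hc)
    have h2 : Lnk S U (b * g * a⁻¹ * a) := .comp ha (haU.symm ▸ h1)
    have h3 : Lnk S U (b⁻¹ * (b * g * a⁻¹ * a)) := .comp h2 (by
      rw [← Fusion.cj_cj, haU, Fusion.cj_eq_self hn]; exact hbinv)
    rwa [show b⁻¹ * (b * g * a⁻¹ * a) = g by group] at h3
  refine ⟨hP, fun W hW hW1 hd n hn V hV hVn => ?_⟩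
  set P0 := S ⊓ Subgroup.normalizer (W : Set G) with hP0
  have hVn' : cj V n ≤ P0 := le_inf hVn ((Fusion.cj_mono (hV.trans inf_le_right) n).trans
    (Fusion.cj_eq_self_of_mem hn).le)
  obtain ⟨e, he, hsyl, hle⟩ := exists_extremal hS hW
  set W0 := cj W e
  set P := S ⊓ Subgroup.normalizer (W0 : Set G)
  have he1 : Lnk S P0 e := hP P0 e hd inf_le_left (hle.trans inf_le_left)
  have he2 : Lnk S (cj P0 e) e⁻¹ := hP _ _ (by rw [Fusion.card_cj]; exact hd) (hle.trans inf_le_left)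
    (by rw [Fusion.cj_cj_inv]; exact inf_le_left)
  set n' := e * n * e⁻¹
  have hn' : n' ∈ Subgroup.normalizer (W0 : Set G) := by
    rw [← Fusion.cj_normalizer]; exact Fusion.conj_mem_cj hn
  have hV' : cj V e ≤ P := (Fusion.cj_mono hV e).trans hle
  have hVn'' : cj (cj V e) n' ≤ P := by
    rw [Fusion.cj_cj, show n' * e = e * n by simp [n', mul_assoc], ← Fusion.cj_cj]
    exact (Fusion.cj_mono hVn' e).trans hle
  have hW0 : W0 ≠ ⊥ := fun h => hW1 (by
    rw [← Subgroup.card_eq_one] at h ⊢; rwa [Fusion.card_cj] at h)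
  have hmid : Lnk S (cj V e) n' := by
    by_cases hlt : Nat.card P0 < Nat.card P
    · obtain ⟨d', hd', hle'⟩ := hgrow (X := P0) inf_le_left hlt hd
      exact (ih d' hd').2 W0 he hW0 hle' n' hn' _ hV' (hVn''.trans inf_le_left)
    refine use_fam (hsub _ (hproper W0 he hW0)) hsyl hL (fun x hx hx' Y hY hYx => ?_) hV' hn' hVn''
    by_cases hPS : P = S
    · rw [hPS] at hx'
      exact .step (hY.trans inf_le_left) (hYx.trans inf_le_left) hx'
    obtain ⟨d', hd', hle'⟩ := hgrow (X := P0) (Y := S ⊓ Subgroup.normalizer (P : Set G)) inf_le_left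
      ((not_lt.1 hlt |>.eq_or_lt).elim (fun h => h ▸ card_lt_normalizer hS inf_le_left hPS)
        (fun h => absurd (Subgroup.card_le_of_le hle) (by rw [Fusion.card_cj]; exact not_le.2 h))) hd
    have hPne : P ≠ ⊥ := fun h => hW0 (le_bot_iff.1 (h ▸ (le_inf he Subgroup.le_normalizer : W0 ≤ P)))
    have hNS : ∀ W' : Subgroup G, (∀ g : G, cj P g = P → cj W' g = W') →
        Nat.card S - Nat.card ↥(S ⊓ Subgroup.normalizer (W' : Set G)) ≤ d' := fun W' hW' => by
      have h1 : S ⊓ Subgroup.normalizer (P : Set G) ≤ S ⊓ Subgroup.normalizer (W' : Set G) :=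
        inf_le_inf_left _ fun s hs => Fusion.mem_normalizer_iff_cj.2 (hW' s (Fusion.cj_eq_self hs))
      have := Subgroup.card_le_of_le h1
      omega
    rcases hx' with hx' | hx'
    · refine (ih d' hd').2 (cen0 P) ((cen0_le P).trans inf_le_left) (cen0_ne_bot hsyl.isPGroup hPne)
        (hNS _ fun g hg => ?_) x (Subgroup.centralizer_le_normalizer _ hx') Y
        (le_inf (hY.trans inf_le_left) (hY.trans ?_)) (hYx.trans inf_le_left)
      · rw [cj, cen0_map _ (MulAut.conj g).injective]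
        exact congrArg cen0 hg
      · exact (le_centralizer_cen0 P).trans (Subgroup.centralizer_le_normalizer _)
    · refine (ih d' hd').2 (Cfsg.thompsonSubgroupOf 2 P) ((JComp.J_le P).trans inf_le_left)
        (JComp.J_ne_bot hsyl.isPGroup hPne) (hNS _ fun g hg => ?_) x hx' Y
        (le_inf (hY.trans inf_le_left) (hY.trans (thompson_normalizer P))) (hYx.trans inf_le_left)
      rw [JComp.thompson_cj, hg]
  have h1 : Lnk S V (n' * e) := .comp (he1.restrict hV) hmid
  have h2 : Lnk S V (e⁻¹ * (n' * e)) := by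
    refine .comp h1 (he2.restrict ?_)
    rw [show n' * e = e * n by simp [n', mul_assoc], ← Fusion.cj_cj]
    exact Fusion.cj_mono hVn' e
  rwa [show e⁻¹ * (n' * e) = n by simp [n', mul_assoc]] at h2

/-- Lifting from the quotient by a normal 2-subgroup centralised by the elements of odd order. -/
theorem lift_quot {S N : Subgroup G} [N.Normal] (hS : SylIn 2 S ⊤) (hNS : N ≤ S)
    (hcov : Subgroup.centralizer (N : Set G) ⊔ S = ⊤) (hFam : Fam (G ⧸ N))
    {Q : Subgroup G → G → Prop} (hQ : Closed S Q)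
    (hstep : ∀ x : G,
      (QuotientGroup.mk' N x ∈ Subgroup.centralizer (cen0 (S.map (QuotientGroup.mk' N)) : Set (G ⧸ N)) ∨
        QuotientGroup.mk' N x ∈
          Subgroup.normalizer (Cfsg.thompsonSubgroupOf 2 (S.map (QuotientGroup.mk' N)) : Set (G ⧸ N))) →
      ∀ V : Subgroup G, V ≤ S → cj V x ≤ S → Q V x)
    {U : Subgroup G} (hU : U ≤ S) {g : G} (hg : cj U g ≤ S) : Q U g := by
  set π := QuotientGroup.mk' N
  set S' := S.map π
  have hS' : SylIn 2 S' ⊤ := Fusion.sylIn_map_mk hS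
  have hmemS : ∀ y : G, π y ∈ S' → y ∈ S := by
    rintro y ⟨s, hs, hsy⟩
    have h1 : s⁻¹ * y ∈ N := QuotientGroup.eq.1 hsy
    have h2 := mul_mem hs (hNS h1)
    rwa [mul_inv_cancel_left] at h2
  -- lifting a sequence
  have lift : ∀ (V : Subgroup (G ⧸ N)) (y : G ⧸ N), Lnk S' V y → ∀ X : Subgroup G, N ≤ X → X ≤ S →
      X.map π = V → ∃ g' : G, Q X g' ∧ ∀ u ∈ X, π (g' * u * g'⁻¹) = y * π u * y⁻¹ := by
    intro V y h
    induction h with
    | @step V y h1 h2 h3 =>
      intro X _ hXS hXV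
      obtain ⟨x, rfl⟩ := QuotientGroup.mk'_surjective N y
      refine ⟨x, hstep x h3 X hXS ?_, fun u _ => by rw [map_mul, map_mul, map_inv]⟩
      rintro _ ⟨u, hu, rfl⟩
      refine hmemS _ (h2 ⟨π u, hXV ▸ Subgroup.mem_map_of_mem π hu, ?_⟩)
      simp [π]
    | @comp V x y _ h' ih1 ih2 =>
      intro X hNX hXS hXV
      obtain ⟨g1, hg1, hag1⟩ := ih1 X hNX hXS hXV
      have hmap : (cj X g1).map π = cj V x := by
        subst hXV
        ext z
        constructor
        · rintro ⟨_, ⟨u, hu, rfl⟩, rfl⟩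
          exact ⟨π u, ⟨u, hu, rfl⟩, (hag1 u hu).symm⟩
        · rintro ⟨_, ⟨u, hu, rfl⟩, rfl⟩
          exact ⟨_, ⟨u, hu, rfl⟩, hag1 u hu⟩
      obtain ⟨g2, hg2, hag2⟩ := ih2 (cj X g1)
        ((Fusion.cj_of_normal N g1).ge.trans (Fusion.cj_mono hNX g1)) (fun z hz => hmemS z (by
          have hz' : π z ∈ cj V x := hmap ▸ Subgroup.mem_map_of_mem π hz
          exact (Lnk.range h').1 hz')) hmap
      refine ⟨g2 * g1, hQ.comp hg1 hg2, fun u hu => ?_⟩
      rw [show g2 * g1 * u * (g2 * g1)⁻¹ = g2 * (g1 * u * g1⁻¹) * g2⁻¹ by group,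
        hag2 _ (Fusion.conj_mem_cj hu), hag1 u hu]
      group
    | @congr V x y _ h ih =>
      intro X hNX hXS hXV
      obtain ⟨g', hg', hag⟩ := ih X hNX hXS hXV
      exact ⟨g', hg', fun u hu => (hag u hu).trans (h _ (hXV ▸ Subgroup.mem_map_of_mem π hu))⟩
  suffices H : ∀ (d : ℕ) (X : Subgroup G) (g : G), Nat.card S - Nat.card X = d → N ≤ X → X ≤ S →
      cj X g ≤ S → Q X g by
    refine hQ.mono le_sup_left (H _ (U ⊔ N) g rfl le_sup_right (sup_le hU hNS) ?_)
    rw [Fusion.cj_sup, Fusion.cj_of_normal N g]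
    exact sup_le hg hNS
  intro d
  induction d using Nat.strong_induction_on with
  | _ d ih =>
  intro X g hd hNX hXS hXg
  have hXg' : cj (X.map π) (π g) ≤ S' := by
    rintro _ ⟨_, ⟨u, hu, rfl⟩, rfl⟩
    exact ⟨g * u * g⁻¹, hXg (Fusion.conj_mem_cj hu), by simp [π]⟩
  by_cases hXeq : X = S
  · refine hstep g (Or.inr (Fusion.mem_normalizer_iff_cj.2 ?_)) X hXS hXg
    subst hXeq
    rw [JComp.thompson_cj, Fusion.cj_eq_of_cj_le hXg']
  obtain ⟨g', hg', hag⟩ := lift _ _ (hFam S' hS' _ _ (Subgroup.map_mono hXS) hXg') X hNX hXS rfl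
  set z := g'⁻¹ * g
  have hz : ∀ u ∈ X, ⁅z, u⁆ ∈ N := by
    intro u hu
    refine (QuotientGroup.eq_one_iff _).1 ?_
    show π ⁅z, u⁆ = 1
    have h1 := hag u hu
    simp only [map_mul, map_inv] at h1
    simp only [z, commutatorElement_def, map_mul, map_inv]
    calc (π g')⁻¹ * π g * π u * ((π g')⁻¹ * π g)⁻¹ * (π u)⁻¹
        = (π g')⁻¹ * (π g * π u * (π g)⁻¹) * π g' * (π u)⁻¹ := by group
      _ = 1 := by rw [← h1]; group
  have hzX : cj X z = X := Fusion.cj_eq_of_cj_le <| by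
    rintro _ ⟨u, hu, rfl⟩
    show z * u * z⁻¹ ∈ X
    rw [show z * u * z⁻¹ = ⁅z, u⁆ * u by rw [commutatorElement_def]; group]
    exact mul_mem (hNX (hz u hu)) hu
  obtain ⟨e, he, hsyl, hle⟩ := exists_extremal hS hXS
  set D := S ⊓ Subgroup.normalizer (X : Set G)
  have hXD : X ≤ D := le_inf hXS Subgroup.le_normalizer
  have hlt : Nat.card X < Nat.card D := card_lt_normalizer hS hXS hXeq
  have hcardS : Nat.card D ≤ Nat.card S := Subgroup.card_le_of_le inf_le_left
  have he1 : Q X e := hQ.mono hXD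
    (ih _ (by omega) D e rfl (hNX.trans hXD) inf_le_left (hle.trans inf_le_left))
  have he2 : Q (cj X e) e⁻¹ := hQ.mono (Fusion.cj_mono hXD e)
    (ih _ (by rw [Fusion.card_cj]; omega) (cj D e) e⁻¹ rfl
      ((Fusion.cj_of_normal N e).ge.trans (Fusion.cj_mono (hNX.trans hXD) e)) (hle.trans inf_le_left)
      (by rw [Fusion.cj_cj_inv]; exact inf_le_left))
  set X1 := cj X e
  set L := Subgroup.normalizer (X1 : Set G) ⊓ centMod N X1
  set R := S ⊓ Subgroup.normalizer (X1 : Set G)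
  have hz1 : e * z * e⁻¹ ∈ L := by
    refine ⟨?_, TwoFac.mem_centMod.2 ?_⟩
    · show e * z * e⁻¹ ∈ Subgroup.normalizer (X1 : Set G)
      rw [Fusion.mem_normalizer_iff_cj, Fusion.cj_cj, inv_mul_cancel_right, ← Fusion.cj_cj, hzX]
    · rintro _ ⟨u, hu, rfl⟩
      show ⁅e * z * e⁻¹, e * u * e⁻¹⁆ ∈ N
      rw [show ⁅e * z * e⁻¹, e * u * e⁻¹⁆ = e * ⁅z, u⁆ * e⁻¹ by simp [commutatorElement_def, mul_assoc]]
      exact (inferInstance : N.Normal).conj_mem _ (hz u hu) e
  have hLn : Subgroup.normalizer (X1 : Set G) ≤ Subgroup.normalizer (L : Set G) := by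
    intro h hh
    refine Fusion.mem_normalizer_of_cj_le ?_
    rw [Fusion.cj_inf, Fusion.cj_eq_self_of_mem hh]
    refine inf_le_inf_left _ ?_
    rintro _ ⟨x, hx, rfl⟩
    refine TwoFac.mem_centMod.2 fun v hv => ?_
    have hv' : h⁻¹ * v * h ∈ X1 := by
      simpa using (Subgroup.mem_normalizer_iff.1 (inv_mem hh) v).1 hv
    show ⁅h * x * h⁻¹, v⁆ ∈ N
    rw [show ⁅h * x * h⁻¹, v⁆ = h * ⁅x, h⁻¹ * v * h⁆ * h⁻¹ by simp [commutatorElement_def, mul_assoc]]
    exact (inferInstance : N.Normal).conj_mem _ (TwoFac.mem_centMod.1 hx _ hv') h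
  have hRL : SylIn 2 (R ⊓ L) L := hsyl.inf_normal inf_le_left hLn
  have hC : Subgroup.centralizer (X1 : Set G) ≤ L := fun x hx =>
    ⟨Subgroup.centralizer_le_normalizer _ hx, TwoFac.mem_centMod.2 fun v hv => by
      rw [commutatorElement_eq_one_iff_mul_comm.2 (Subgroup.mem_centralizer_iff.1 hx v hv).symm]
      exact one_mem N⟩
  have hLC : L ≤ Subgroup.normalizer (Subgroup.centralizer (X1 : Set G) : Set G) := fun x hx =>
    Fusion.mem_normalizer_iff_cj.2 (by rw [Fusion.cj_centralizer, Fusion.cj_eq_self hx.1])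
  have hodd : ∀ x ∈ L, Odd (orderOf x) → x ∈ Subgroup.centralizer (X1 : Set G) := by
    intro x hx ho
    have hxN : x ∈ Subgroup.centralizer (N : Set G) := by
      haveI : (Subgroup.centralizer (N : Set G)).Normal := inferInstance
      exact TwoFac.residual_le_of_sup' hS.isPGroup hcov (TwoFac.odd_mem_residual ho)
    refine Subgroup.mem_centralizer_iff.2 fun v hv => ?_
    obtain ⟨k, hk⟩ := (hS.isPGroup.to_le hNS) ⟨_, TwoFac.mem_centMod.1 hx.2 v hv⟩
    refine (commutatorElement_eq_one_iff_mul_comm.1 (Subgroup.mem_bot.1 (TwoFac.odd_stab ho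
      ⟨k, Subgroup.mem_bot.2 (congrArg Subtype.val hk)⟩ (Subgroup.mem_bot.2 ?_)))).symm
    exact commutatorElement_eq_one_iff_mul_comm.2
      (Subgroup.mem_centralizer_iff.1 hxN _ (TwoFac.mem_centMod.1 hx.2 v hv)).symm
  obtain ⟨c, hc, p, hp, hcp⟩ : ∃ c ∈ Subgroup.centralizer (X1 : Set G), ∃ p ∈ R ⊓ L, c * p = e * z * e⁻¹ :=
    (JComp.mem_sup_iff_mul (inf_le_right.trans hLC)).1 (le_sup_sylow hC hLC hRL hodd hz1)
  have hpX : cj X1 p = X1 := Fusion.cj_eq_self hp.1.2
  have hz1X : cj X1 (e * z * e⁻¹) = X1 := Fusion.cj_eq_self hz1.1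
  have hQz1 : Q X1 (e * z * e⁻¹) := by
    rw [← hcp]
    exact hQ.comp (hQ.inner he hp.1.1) (by rw [hpX]; exact hQ.cent he hc)
  have hQz : Q X z := by
    have h1 : Q X (e * z * e⁻¹ * e) := hQ.comp he1 hQz1
    have h2 : Q X (e⁻¹ * (e * z * e⁻¹ * e)) := hQ.comp h1 (by
      rw [← Fusion.cj_cj, hz1X]; exact he2)
    rwa [show e⁻¹ * (e * z * e⁻¹ * e) = z by group] at h2
  have h3 : Q X (g' * z) := hQ.comp hQz (by rw [hzX]; exact hg')
  rwa [show g' * z = g by simp [z]] at h3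

/-- The subgroups lying over the two functors of the quotient by the 2-core are proper. -/
theorem quot_proper {S : Subgroup G} (hS : SylIn 2 S ⊤) (hSQ : ¬ S ≤ Cfsg.pCore 2 G) :
    (Subgroup.centralizer
        (cen0 (S.map (QuotientGroup.mk' (Cfsg.pCore 2 G))) : Set (G ⧸ Cfsg.pCore 2 G))).comap
        (QuotientGroup.mk' (Cfsg.pCore 2 G)) ≠ ⊤ ∧
      (Subgroup.normalizer (Cfsg.thompsonSubgroupOf 2
          (S.map (QuotientGroup.mk' (Cfsg.pCore 2 G))) : Set (G ⧸ Cfsg.pCore 2 G))).comap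
        (QuotientGroup.mk' (Cfsg.pCore 2 G)) ≠ ⊤ := by
  set π := QuotientGroup.mk' (Cfsg.pCore 2 G)
  have hS' : IsPGroup 2 (S.map π) := hS.isPGroup.map π
  have hne : S.map π ≠ ⊥ := fun h => hSQ (by
    rwa [Subgroup.map_eq_bot_iff, QuotientGroup.ker_mk'] at h)
  have key : ∀ A : Subgroup (G ⧸ Cfsg.pCore 2 G), A ≤ S.map π → A.Normal → A = ⊥ := fun A hA hAn => by
    haveI := hAn
    exact le_bot_iff.1 ((Fusion.le_pCore (hS'.to_le hA)).trans Fusion.pCore_quotient_eq_bot.le)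
  have htop : ∀ H : Subgroup (G ⧸ Cfsg.pCore 2 G), H.comap π = ⊤ → H = ⊤ := fun H h => by
    rw [← Subgroup.map_comap_eq_self_of_surjective (f := π) (QuotientGroup.mk'_surjective _) H, h,
      Subgroup.map_top_of_surjective π (QuotientGroup.mk'_surjective _)]
  refine ⟨fun h => cen0_ne_bot hS' hne (key _ (cen0_le _) ?_),
    fun h => JComp.J_ne_bot hS' hne (key _ (JComp.J_le _) (Subgroup.normalizer_eq_top_iff.1 (htop _ h)))⟩
  refine ⟨fun a ha y => ?_⟩
  have hy : y ∈ Subgroup.centralizer (cen0 (S.map π) : Set (G ⧸ Cfsg.pCore 2 G)) :=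
    (htop _ h).symm ▸ Subgroup.mem_top y
  rwa [← Subgroup.mem_centralizer_iff.1 hy a ha, mul_inv_cancel_right]

/-- The fusion theorem for two subgroups. -/
theorem fam : ∀ (n : ℕ) {G : Type u} [Group G] [Finite G], Nat.card G = n → Hyp G → Fam G := by
  intro n
  induction n using Nat.strong_induction_on with
  | _ n ih =>
  intro G _ _ hn hyp
  haveI : Fact (Nat.Prime 2) := ⟨Nat.prime_two⟩
  have hsub : ∀ M : Subgroup G, M ≠ ⊤ → Fam ↥M := fun M hM =>
    ih _ (hn ▸ lt_of_le_of_ne (Subgroup.card_le_card_group M) fun e => hM (Subgroup.eq_top_of_card_eq M e))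
      rfl (hyp.sub M)
  set Q := Cfsg.pCore 2 G with hQdef
  by_cases hQ : Q = ⊥
  · exact fam_of_core_bot hQ hsub
  intro S hS U g hU hg
  haveI : Q.Normal := inferInstance
  have hQS : Q ≤ S := Fusion.pCore_le_sylIn hS
  set K := Q ⊔ Subgroup.centralizer (Q : Set G)
  haveI : K.Normal := inferInstance
  have hL := lnk_closed S
  by_cases hKS : K ⊔ S = ⊤
  · by_cases hSQ : S ≤ Q
    · have hSn : S.Normal := le_antisymm hSQ hQS ▸ ‹Q.Normal›
      haveI := hSn
      refine .step hU hg (Or.inr (Fusion.mem_normalizer_iff_cj.2 ?_))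
      rw [JComp.thompson_cj, Fusion.cj_of_normal]
    have hcov : Subgroup.centralizer (Q : Set G) ⊔ S = ⊤ := by
      rw [← hKS]
      show _ = Q ⊔ Subgroup.centralizer (Q : Set G) ⊔ S
      rw [sup_comm Q, sup_assoc, sup_eq_right.2 hQS]
    have hlt : Nat.card (G ⧸ Q) < n := by
      have h1 := Q.card_mul_index
      have h2 := Subgroup.one_lt_card_iff_ne_bot Q |>.2 hQ
      have h3 : 0 < Q.index := Nat.pos_of_ne_zero Subgroup.index_ne_zero_of_finite
      rw [← Q.index_eq_card]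
      nlinarith
    obtain ⟨h1, h2⟩ := quot_proper hS hSQ
    have hSle : ∀ H : Subgroup (G ⧸ Q), S.map (QuotientGroup.mk' Q) ≤ H →
        SylIn 2 S (H.comap (QuotientGroup.mk' Q)) := fun H h =>
      hS.mono (Subgroup.map_le_iff_le_comap.1 h) le_top
    refine lift_quot hS hQS hcov (ih _ hlt rfl (hyp.quot Q)) hL (fun x hx V hV hVx => ?_) hU hg
    rcases hx with hx | hx
    · exact use_fam (hsub _ h1) (hSle _ (le_centralizer_cen0 _)) hL
        (fun y _ hy W hW hWy => .step hW hWy hy) hV (g := x) hx hVx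
    · exact use_fam (hsub _ h2) (hSle _ (thompson_normalizer _)) hL
        (fun y _ hy W hW hWy => .step hW hWy hy) hV (g := x) hx hVx
  -- Frattini
  set SK := S ⊓ K
  set N := Subgroup.normalizer (SK : Set G)
  have hsylK : SylIn 2 SK K := hS.inf_normal le_top (by rw [Subgroup.normalizer_eq_top])
  have hSN : S ≤ N := fun s hs => Fusion.mem_normalizer_iff_cj.2 (by
    rw [Fusion.cj_inf, Fusion.cj_eq_self_of_mem hs, Fusion.cj_of_normal])
  obtain ⟨k, hk, hkn⟩ := Fusion.frattini_conj hsylK (H := ⊤) (by rw [Subgroup.normalizer_eq_top])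
    (Subgroup.mem_top g)
  obtain ⟨a, ha, b, hb, hab, hbU, haU⟩ := product hS (le_sup_right : S ≤ K ⊔ S) hSN
    (x := k⁻¹) (y := k * g) (Subgroup.mem_sup_left (inv_mem hk)) hkn hU (by rwa [inv_mul_cancel_left])
  rw [inv_mul_cancel_left] at hab
  have ha' : Lnk S (cj U b) a := use_fam (hsub _ hKS) (hS.mono le_sup_right le_top) hL
    (fun y _ hy W hW hWy => .step hW hWy hy) hbU ha haU
  have hb' : Lnk S U b := by
    haveI : (SK.subgroupOf N).Normal := Subgroup.normal_subgroupOf_of_le_normalizer le_rfl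
    have hS' : SylIn 2 (S.subgroupOf N) ⊤ := ⟨le_top, hS.isPGroup.comap_subtype, by
      rw [Subgroup.relIndex_top_right]; exact (hS.mono hSN le_top).not_dvd⟩
    have hcen : S.subgroupOf N ⊓ Subgroup.centralizer ((SK.subgroupOf N : Subgroup ↥N) : Set ↥N) ≤
        SK.subgroupOf N := by
      intro x hx
      obtain ⟨hx1, hx2⟩ := Subgroup.mem_inf.1 hx
      exact ⟨hx1, Subgroup.mem_sup_right (Subgroup.mem_centralizer_iff.2
        fun q hq => congrArg Subtype.val (Subgroup.mem_centralizer_iff.1 hx2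
          ⟨q, hSN (hQS hq)⟩ ⟨hQS hq, Subgroup.mem_sup_left hq⟩))⟩
    obtain ⟨c, hc, m, -, hm, hcm⟩ := factor12 (T := SK.subgroupOf N) (hyp.sub N) hS' (fun x hx => hx.1) hcen ⟨b, hb⟩
    have hmapS : (S.subgroupOf N).map N.subtype = S := Subgroup.map_subgroupOf_eq_of_le hSN
    have hc' : (c : G) ∈ Subgroup.centralizer (cen0 S : Set G) := by
      refine Subgroup.mem_centralizer_iff.2 fun z hz => ?_
      rw [← hmapS, ← cen0_map N.subtype N.subtype_injective] at hz
      obtain ⟨z', hz', rfl⟩ := hz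
      exact congrArg Subtype.val (Subgroup.mem_centralizer_iff.1 hc z' hz')
    have hm' : (m : G) ∈ Subgroup.normalizer (Cfsg.thompsonSubgroupOf 2 S : Set G) := by
      have h := Subgroup.le_normalizer_map N.subtype ⟨m, hm, rfl⟩
      rwa [TwoFac.jElem_map N.subtype N.subtype_injective, hmapS] at h
    have hb2 : b = (c : G) * m := congrArg Subtype.val hcm
    obtain ⟨a', ha', b', hb', hab', hbU', haU'⟩ :=
      product hS (le_centralizer_cen0 S) (thompson_normalizer S) hc' hm' hU (hb2 ▸ hbU)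
    rw [hb2, hab']
    exact .comp (.step hU hbU' (Or.inr hb')) (.step hbU' haU' (Or.inl ha'))
  rw [hab]
  exact .comp hb' ha'

end Cfsg.Agent.Solv.FourFus
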