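import Cfsg.Agent.Lib.Solv.FourFusion.Basic

/-!
Groups with a centric normal 2-subgroup: factorisations lifted from the quotient by the odd core.
-/

set_option autoImplicit false
set_option linter.style.haveILetI false
set_option linter.unusedSectionVars false

open scoped commutatorElement
open Cfsg.Agent.Fusion (cj SylIn)

namespace Cfsg.Agent.Solv.FourFus

open Cfsg.Agent.Solv.TwoFac (KG jh)

universe u

variable {G : Type u} [Group G] [Finite G] [Fact (Nat.Prime 2)]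

/-- The centraliser of a centric normal 2-subgroup. -/
theorem centralizer_le_core {S T : Subgroup G} [T.Normal] (hS : SylIn 2 S ⊤)
    (hcen : S ⊓ Subgroup.centralizer (T : Set G) ≤ T) :
    Subgroup.centralizer (T : Set G) ≤ Cfsg.pPrimeCore 2 G ⊔ T := by
  set K := Subgroup.centralizer (T : Set G)
  haveI : K.Normal := inferInstance
  obtain ⟨P, hP⟩ := (hS.inf_normal (le_top : K ≤ ⊤)
    (by rw [Subgroup.normalizer_eq_top])).exists_sylow_subgroupOf
  have hPT : ∀ z : K, z ∈ (P : Subgroup K) → (z : G) ∈ T := fun z hz => by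
    rw [hP, Subgroup.mem_subgroupOf] at hz; exact hcen hz
  have hnpc : Cfsg.HasNormalPComplement 2 ↥K :=
    Fusion.hnpc_of_normalizer_le_centralizer P fun c _ => Subgroup.mem_centralizer_iff.2 fun z hz =>
      Subtype.ext (Subgroup.mem_centralizer_iff.1 c.2 _ (hPT z hz))
  haveI : ((Cfsg.pResidual 2 ↥K).map K.subtype).Normal :=
    ConjAct.normal_of_characteristic_of_normal
  have hres : (Cfsg.pResidual 2 ↥K).map K.subtype ≤ Cfsg.pPrimeCore 2 G := by
    refine Fusion.le_pPrimeCore ?_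
    rw [Subgroup.card_map_of_injective K.subtype_injective]
    exact Fusion.hnpc_iff.1 hnpc
  intro z hz
  have hz' : (⟨z, hz⟩ : K) ∈ Cfsg.pResidual 2 ↥K ⊔ (P : Subgroup K) :=
    (Fusion.pResidual_sup_sylow P).symm ▸ Subgroup.mem_top _
  obtain ⟨a, ha, b, hb, hab⟩ := Subgroup.mem_sup_of_normal_left.1 hz'
  rw [show z = (a : G) * b from (congrArg Subtype.val hab).symm]
  exact mul_mem (Subgroup.mem_sup_left (hres ⟨a, ha, rfl⟩)) (Subgroup.mem_sup_right (hPT b hb))

/-- The commutator of a normal 2-subgroup with an element, modulo the odd core. -/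
theorem eq_one_of_core {T : Subgroup G} (hT : IsPGroup 2 T) {z : G} (h1 : z ∈ T)
    (h2 : z ∈ Cfsg.pPrimeCore 2 G) : z = 1 :=
  Subgroup.mem_bot.1 ((Fusion.coprime_inf_pGroup (Fusion.card_pPrimeCore_coprime 2 G) hT).le ⟨h2, h1⟩)

/-- The quotient by the odd core is constrained. -/
theorem quot_constrained {S T : Subgroup G} [T.Normal] (hS : SylIn 2 S ⊤) (hTS : T ≤ S)
    (hcen : S ⊓ Subgroup.centralizer (T : Set G) ≤ T) :
    Subgroup.centralizer (Cfsg.pCore 2 (G ⧸ Cfsg.pPrimeCore 2 G) : Set (G ⧸ Cfsg.pPrimeCore 2 G)) ≤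
      Cfsg.pCore 2 (G ⧸ Cfsg.pPrimeCore 2 G) := by
  set O := Cfsg.pPrimeCore 2 G
  set π := QuotientGroup.mk' O
  have hT2 : IsPGroup 2 T := hS.isPGroup.to_le hTS
  haveI : (T.map π).Normal := Subgroup.Normal.map inferInstance _ (QuotientGroup.mk'_surjective O)
  have hTQ : T.map π ≤ Cfsg.pCore 2 (G ⧸ O) := Fusion.le_pCore (hT2.map _)
  intro y hy
  obtain ⟨x, rfl⟩ := QuotientGroup.mk'_surjective O y
  have hx : x ∈ Subgroup.centralizer (T : Set G) := by
    refine Subgroup.mem_centralizer_iff.2 fun t ht => ?_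
    refine (commutatorElement_eq_one_iff_mul_comm.1 (eq_one_of_core hT2 (z := ⁅t, x⁆) ?_ ?_))
    · rw [commutatorElement_def, show t * x * t⁻¹ * x⁻¹ = t * (x * t⁻¹ * x⁻¹) by group]
      exact mul_mem ht ((inferInstance : T.Normal).conj_mem _ (inv_mem ht) x)
    · refine (QuotientGroup.eq_one_iff _).1 ?_
      show π ⁅t, x⁆ = 1
      rw [map_commutatorElement, commutatorElement_eq_one_iff_mul_comm]
      exact Subgroup.mem_centralizer_iff.1 hy _ (hTQ ⟨t, ht, rfl⟩)
  obtain ⟨o, ho, t, ht, rfl⟩ := Subgroup.mem_sup_of_normal_left.1 (centralizer_le_core hS hcen hx)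
  rw [map_mul, show π o = 1 from (QuotientGroup.eq_one_iff o).2 ho, one_mul]
  exact hTQ ⟨t, ht, rfl⟩

/-- The functors are compatible with maps injective on `S`. -/
theorem maps_on {H : Type u} [Group H] [Finite H] (π : G →* H) {S : Subgroup G}
    (hinj : Set.InjOn π S) :
    (cen0 S).map π = cen0 (S.map π) ∧ (jh S).map π = jh (S.map π) ∧ (hatZ S).map π = hatZ (S.map π) ∧
      (Cfsg.thompsonSubgroupOf 2 S).map π = Cfsg.thompsonSubgroupOf 2 (S.map π) := by
  set f := π.comp S.subtype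
  have hf : Function.Injective f := fun a b h => Subtype.ext (hinj a.2 b.2 h)
  have key : ∀ (F : ∀ {X : Type u} [Group X] [Finite X], Subgroup X → Subgroup X),
      (∀ {X Y : Type u} [Group X] [Finite X] [Group Y] [Finite Y] (g : X →* Y),
        Function.Injective g → ∀ A : Subgroup X, (F A).map g = F (A.map g)) →
      (F S).map π = F (S.map π) := by
    intro F hF
    have h1 := hF S.subtype S.subtype_injective ⊤
    have h2 := hF f hf ⊤
    rw [← MonoidHom.range_eq_map, Subgroup.range_subtype] at h1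
    rw [← MonoidHom.range_eq_map, MonoidHom.range_comp, Subgroup.range_subtype] at h2
    rw [← h1, Subgroup.map_map]
    exact h2
  exact ⟨key (fun A => cen0 A) fun g hg A => cen0_map g hg A,
    key (fun A => jh A) fun g hg A => TwoFac.jh_map g hg A,
    key (fun A => hatZ A) fun g hg A => hatZ_map g hg A,
    key (fun A => Cfsg.thompsonSubgroupOf 2 A) fun g hg A => TwoFac.jElem_map g hg A⟩

variable (hyp : Hyp G) {S T : Subgroup G} [T.Normal] (hS : SylIn 2 S ⊤) (hTS : T ≤ S)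
  (hcen : S ⊓ Subgroup.centralizer (T : Set G) ≤ T)
include hyp hS hTS hcen

/-- The quotient satisfies the hypotheses of the factorisation theorem. -/
theorem quot_data : ¬ Cfsg.Involves (Equiv.Perm (Fin 4)) (G ⧸ Cfsg.pPrimeCore 2 G) ∧
    KG (G ⧸ Cfsg.pPrimeCore 2 G) :=
  ⟨(hyp.quot _).free, hyp.sec _ ⊤ ((QuotientGroup.mk' (Cfsg.pPrimeCore 2 G)).comp (⊤ : Subgroup G).subtype)
    (fun y => by
      obtain ⟨x, rfl⟩ := QuotientGroup.mk'_surjective _ y
      exact ⟨⟨x, Subgroup.mem_top x⟩, rfl⟩)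
    (quot_constrained hS hTS hcen)⟩

/-- The factorisation through `N(Ĵ(S))`. -/
theorem factor12 (g : G) : ∃ c ∈ Subgroup.centralizer (cen0 S : Set G), ∃ m,
    m ∈ Subgroup.normalizer (jh S : Set G) ∧
      m ∈ Subgroup.normalizer (Cfsg.thompsonSubgroupOf 2 S : Set G) ∧ g = c * m := by
  set O := Cfsg.pPrimeCore 2 G
  set π := QuotientGroup.mk' O
  have hO := Fusion.card_pPrimeCore_coprime 2 G
  obtain ⟨hcm, hjm, -, -⟩ := maps_on π (Fusion.injOn_mk_of_coprime hO hS.isPGroup)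
  obtain ⟨P, hP⟩ := (Fusion.sylIn_map_mk (N := O) hS).exists_sylow
  obtain ⟨hf, hk⟩ := quot_data hyp hS hTS hcen
  obtain ⟨c', hc', m', -, hm'1, hgm⟩ := TwoFac.part12 (quot_constrained hS hTS hcen) hf hk P (π g)
  rw [hP] at hc' hm'1
  rw [← hjm] at hm'1
  obtain ⟨m, hm, hmπ⟩ := Fusion.exists_lift_normalizer hO (hS.isPGroup.to_le (TwoFac.jh_le S)) hm'1
  have hJ : Cfsg.thompsonSubgroupOf 2 (jh S) = Cfsg.thompsonSubgroupOf 2 S :=
    JComp.J_eq_of_sylIn hS (hS.isPGroup.to_le (TwoFac.jh_le S)) le_top (TwoFac.J_le_jh S)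
  refine ⟨g * m⁻¹, ?_, m, hm, Fusion.mem_normalizer_iff_cj.2 ?_, by group⟩
  · have hπc : π (g * m⁻¹) = c' := by rw [map_mul, map_inv, hmπ, hgm, mul_inv_cancel_right]
    refine Subgroup.mem_centralizer_iff.2 fun z hz => ?_
    have hzT : z ∈ T := hcen ⟨cen0_le S hz, Subgroup.centralizer_le hTS (cen0_le_centralizer S hz)⟩
    refine commutatorElement_eq_one_iff_mul_comm.1 (eq_one_of_core (hS.isPGroup.to_le hTS) ?_ ?_)
    · rw [commutatorElement_def, show z * (g * m⁻¹) * z⁻¹ * (g * m⁻¹)⁻¹ =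
        z * ((g * m⁻¹) * z⁻¹ * (g * m⁻¹)⁻¹) by group]
      exact mul_mem hzT ((inferInstance : T.Normal).conj_mem _ (inv_mem hzT) _)
    · refine (QuotientGroup.eq_one_iff _).1 ?_
      show π ⁅z, g * m⁻¹⁆ = 1
      rw [map_commutatorElement, hπc, commutatorElement_eq_one_iff_mul_comm]
      refine Subgroup.mem_centralizer_iff.1 hc' _ ?_
      have h1 : π z ∈ cen0 (S.map π) := hcm ▸ Subgroup.mem_map_of_mem π hz
      exact ⟨cen0_le _ h1, cen0_le_centralizer _ h1⟩
  · conv_lhs => rw [← hJ, JComp.thompson_cj, Fusion.cj_eq_self hm, hJ]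

/-- Subgroups of `Ω₁(Z(Ĵ(S)))` normalised by `N(J(S))` are normal modulo the odd core. -/
theorem factor_normalizer {B : Subgroup G} (hB : B ≤ hatZ S)
    (hBN : Subgroup.normalizer (Cfsg.thompsonSubgroupOf 2 S : Set G) ≤ Subgroup.normalizer (B : Set G))
    (g : G) : ∃ o ∈ Cfsg.pPrimeCore 2 G, ∃ x ∈ Subgroup.normalizer (B : Set G), g = o * x := by
  set O := Cfsg.pPrimeCore 2 G
  set π := QuotientGroup.mk' O
  have hO := Fusion.card_pPrimeCore_coprime 2 G
  obtain ⟨-, -, hzm, hJm⟩ := maps_on π (Fusion.injOn_mk_of_coprime hO hS.isPGroup)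
  obtain ⟨P, hP⟩ := (Fusion.sylIn_map_mk (N := O) hS).exists_sylow
  obtain ⟨hf, hk⟩ := quot_data hyp hS hTS hcen
  obtain ⟨c', hc', m', hm', hgm⟩ := TwoFac.part3 _ rfl (quot_constrained hS hTS hcen) hf hk P (π g)
  rw [hP] at hc' hm'
  rw [← hJm] at hm'
  obtain ⟨m, hm, hmπ⟩ :=
    Fusion.exists_lift_normalizer hO (hS.isPGroup.to_le (JComp.J_le S)) hm'
  have h1 : c' ∈ Subgroup.normalizer (B.map π : Set (G ⧸ O)) :=
    Subgroup.centralizer_le_normalizer _ (Subgroup.centralizer_le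
      (show B.map π ≤ hatZ (S.map π) from hzm ▸ Subgroup.map_mono hB) hc')
  have h2 : m' ∈ Subgroup.normalizer (B.map π : Set (G ⧸ O)) :=
    hmπ ▸ Subgroup.le_normalizer_map π ⟨m, hBN hm, rfl⟩
  obtain ⟨x, hx, hxπ⟩ := Fusion.exists_lift_normalizer hO
    (hS.isPGroup.to_le (hB.trans (hatZ_le S))) (y := π g) (hgm ▸ mul_mem h1 h2)
  refine ⟨g * x⁻¹, (QuotientGroup.eq_one_iff _).1 ?_, x, hx, by group⟩
  show π (g * x⁻¹) = 1
  rw [map_mul, map_inv, hxπ, mul_inv_cancel]

/-- Fusion by elements of such a group is realised in `N(B)`. -/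
theorem gd_of_normal_centric {B : Subgroup G} (hB : B ≤ hatZ S)
    (hBN : Subgroup.normalizer (Cfsg.thompsonSubgroupOf 2 S : Set G) ≤ Subgroup.normalizer (B : Set G))
    {U : Subgroup G} (hU : U ≤ S) {g : G} (hg : cj U g ≤ S) : Gd B U g := by
  set O := Cfsg.pPrimeCore 2 G
  haveI : O.Normal := inferInstance
  have hSB : S ≤ Subgroup.normalizer (B : Set G) := (thompson_normalizer S).trans hBN
  obtain ⟨o, ho, x, hx, rfl⟩ := factor_normalizer hyp hS hTS hcen hB hBN g
  obtain ⟨a, ha, b, hb, hab, hbU, haU⟩ :=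
    product hS (le_sup_right : S ≤ O ⊔ S) hSB (Subgroup.mem_sup_left ho) hx hU hg
  obtain ⟨o', ho', s, hs, rfl⟩ := Subgroup.mem_sup_of_normal_left.1 ha
  have h1 : Gd B U b := ⟨b, hb, fun _ _ => rfl⟩
  have h2 : Gd B (cj U b) (o' * s) := by
    refine ⟨s, hSB hs, fun v hv => ?_⟩
    have hw : s * v * s⁻¹ ∈ S := mul_mem (mul_mem hs (hbU hv)) (inv_mem hs)
    have hw' : o' * (s * v * s⁻¹) * o'⁻¹ ∈ S := by
      have := haU (Fusion.conj_mem_cj (g := o' * s) hv)
      rwa [show o' * s * v * (o' * s)⁻¹ = o' * (s * v * s⁻¹) * o'⁻¹ by group] at this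
    have h3 : ⁅o', s * v * s⁻¹⁆ = 1 := eq_one_of_core hS.isPGroup
      (by rw [commutatorElement_def]; exact mul_mem hw' (inv_mem hw))
      (by
        rw [commutatorElement_def, show o' * (s * v * s⁻¹) * o'⁻¹ * (s * v * s⁻¹)⁻¹ =
          o' * ((s * v * s⁻¹) * o'⁻¹ * (s * v * s⁻¹)⁻¹) by group]
        exact mul_mem ho' ((inferInstance : O.Normal).conj_mem _ (inv_mem ho') _))
    rw [commutatorElement_eq_one_iff_mul_comm] at h3
    rw [show o' * s * v * (o' * s)⁻¹ = o' * (s * v * s⁻¹) * o'⁻¹ by group, h3]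
    group
  rw [hab]
  exact (gd_closed hSB).comp h1 h2

end Cfsg.Agent.Solv.FourFus
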